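import Cfsg.Agent.Lib.Transfer.ClassTwo
import Cfsg.Agent.Lib.Invol.Dihedral
import Mathlib.GroupTheory.NoncommCoprod
import Mathlib.Algebra.Group.Shrink

/-!
# Groups with derived subgroup of order `p` having an abelian maximal subgroup of exponent `p`
-/

set_option autoImplicit false

namespace CfsgLib.FusionGenExtra

open Cfsg
open scoped commutatorElement

universe u

variable {Q : Type u} [Group Q] {p : ℕ}

/-- `z` is central of order `p` and contains all commutators, `u` is a non-central element of order `p`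
outside `⟨z⟩` whose centralizer is abelian of exponent `p`. -/
structure Data (Q : Type u) [Group Q] (p : ℕ) (z u : Q) : Prop where
  comm : ∀ a b : Q, ⁅a, b⁆ ∈ Subgroup.zpowers z
  central : z ∈ Subgroup.center Q
  orderz : orderOf z = p
  u_not : u ∉ Subgroup.zpowers z
  u_pow : u ^ p = 1
  u_noncentral : ∃ a : Q, ⁅a, u⁆ ≠ 1
  cab : ∀ a b : Q, Commute a u → Commute b u → Commute a b
  cexp : ∀ a : Q, Commute a u → a ^ p = 1

variable {z u : Q}

theorem Data.commutator_le (h : Data Q p z u) : commutator Q ≤ Subgroup.zpowers z := by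
  rw [commutator_def, Subgroup.commutator_le]
  exact fun a _ b _ => h.comm a b

theorem Data.zpowers_le_center (h : Data Q p z u) : Subgroup.zpowers z ≤ Subgroup.center Q :=
  Subgroup.zpowers_le.2 h.central

theorem Data.class_two (h : Data Q p z u) : commutator Q ≤ Subgroup.center Q :=
  h.commutator_le.trans h.zpowers_le_center

theorem commutator_zpow_left (hc : commutator Q ≤ Subgroup.center Q) (a b : Q) (i : ℤ) :
    ⁅a ^ i, b⁆ = ⁅a, b⁆ ^ i := by
  have h := map_zpow (CfsgLib.Transfer.commutatorHom hc b) a i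
  exact congrArg Subtype.val h

theorem commutator_mul_left (hc : commutator Q ≤ Subgroup.center Q) (a b c : Q) :
    ⁅a * b, c⁆ = ⁅a, c⁆ * ⁅b, c⁆ :=
  CfsgLib.Transfer.commutatorElement_mul_left_central
    (CfsgLib.Transfer.commutatorElement_mem_center_of_le hc b c)

variable [Fact p.Prime]

theorem Data.exists_x (h : Data Q p z u) : ∃ x : Q, ⁅x, u⁆ = z := by
  obtain ⟨a, ha⟩ := h.u_noncentral
  have hc : Nat.card (Subgroup.zpowers z) = p := (Nat.card_zpowers z).trans h.orderz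
  have := mem_zpowers_of_prime_card (g := (⟨⁅a, u⁆, h.comm a u⟩ : Subgroup.zpowers z))
    (g' := ⟨z, Subgroup.mem_zpowers z⟩) hc (fun hh => ha (congrArg Subtype.val hh))
  obtain ⟨k, hk⟩ := this
  exact ⟨a ^ k, (commutator_zpow_left h.class_two a u k).trans (congrArg Subtype.val hk)⟩

theorem Data.zpow_eq_one_iff (h : Data Q p z u) {i : ℤ} : z ^ i = 1 ↔ (p : ℤ) ∣ i := by
  rw [← orderOf_dvd_iff_zpow_eq_one, h.orderz]

theorem zpow_eq_one_of_dvd {g : Q} (hg : g ^ p = 1) {i : ℤ} (hi : (p : ℤ) ∣ i) : g ^ i = 1 := by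
  obtain ⟨k, rfl⟩ := hi
  rw [zpow_mul, zpow_natCast, hg, one_zpow]

section

variable {x : Q}

theorem Data.decomp (h : Data Q p z u) (hx : ⁅x, u⁆ = z) (g : Q) :
    ∃ (i : ℤ) (c : Q), g = x ^ i * c ∧ Commute c u := by
  obtain ⟨i, hi⟩ := h.comm g u
  refine ⟨i, (x ^ i)⁻¹ * g, (mul_inv_cancel_left _ _).symm, ?_⟩
  rw [← commutatorElement_eq_one_iff_commute, commutator_mul_left h.class_two,
    ← zpow_neg, commutator_zpow_left h.class_two, hx, ← hi, zpow_neg, inv_mul_cancel]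

/-- The elements commuting with `u` are `u ^ j` times central elements. -/
theorem Data.decomp_center (h : Data Q p z u) (hx : ⁅x, u⁆ = z) {c : Q} (hc : Commute c u) :
    ∃ (j : ℤ) (w : Q), c = u ^ j * w ∧ w ∈ Subgroup.center Q := by
  obtain ⟨j, hj⟩ := h.comm c x
  refine ⟨-j, u ^ j * c, by rw [zpow_neg, inv_mul_cancel_left], ?_⟩
  have hwu : Commute (u ^ j * c) u := ((Commute.refl u).zpow_left j).mul_left hc
  have hwx : Commute (u ^ j * c) x := by
    rw [← commutatorElement_eq_one_iff_commute, commutator_mul_left h.class_two,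
      commutator_zpow_left h.class_two, ← hj, ← commutatorElement_inv x u, hx, inv_zpow, inv_mul_cancel]
  refine Subgroup.mem_center_iff.2 fun g => ?_
  obtain ⟨i, c', rfl, hc'⟩ := h.decomp hx g
  exact (((hwx.zpow_right i).mul_right (h.cab _ _ hwu hc'))).eq.symm

theorem Data.commute_u_of_center (_h : Data Q p z u) {w : Q} (hw : w ∈ Subgroup.center Q) : Commute w u :=
  (Subgroup.mem_center_iff.1 hw u).symm

theorem Data.center_pow (h : Data Q p z u) {w : Q} (hw : w ∈ Subgroup.center Q) : w ^ p = 1 :=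
  h.cexp w (h.commute_u_of_center hw)

/-- A central subgroup complementing `⟨z⟩` in the centre. -/
theorem Data.exists_complement [Finite Q] (h : Data Q p z u) :
    ∃ A : Subgroup Q, A ≤ Subgroup.center Q ∧ A ⊓ Subgroup.zpowers z = ⊥ ∧
      A ⊔ Subgroup.zpowers z = Subgroup.center Q := by
  obtain ⟨A, hA, hmax⟩ := (Set.toFinite {A : Subgroup Q | A ≤ Subgroup.center Q ∧ z ∉ A}).exists_maximal
    ⟨⊥, bot_le, fun h1 => by
      have := h.orderz
      rw [Subgroup.mem_bot.1 h1, orderOf_one] at this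
      exact (Fact.out : p.Prime).one_lt.ne this⟩
  have hinf : A ⊓ Subgroup.zpowers z = ⊥ := by
    rw [Subgroup.eq_bot_iff_forall]
    rintro _ ⟨ha, k, rfl⟩
    by_contra hne
    refine hA.2 ?_
    have hc : Nat.card (Subgroup.zpowers z) = p := (Nat.card_zpowers z).trans h.orderz
    have := mem_zpowers_of_prime_card (g := (⟨z ^ k, ⟨k, rfl⟩⟩ : Subgroup.zpowers z))
      (g' := ⟨z, Subgroup.mem_zpowers z⟩) hc (fun hh => hne (congrArg Subtype.val hh))
    obtain ⟨m, hm⟩ := this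
    have e : (z ^ k) ^ m = z := congrArg Subtype.val hm
    exact e ▸ A.zpow_mem ha m
  refine ⟨A, hA.1, hinf, le_antisymm (sup_le hA.1 h.zpowers_le_center) fun w hw => ?_⟩
  by_contra hwn
  have hle : A ⊔ Subgroup.zpowers w ≤ Subgroup.center Q := sup_le hA.1 (Subgroup.zpowers_le.2 hw)
  have hz : z ∈ A ⊔ Subgroup.zpowers w := by
    by_contra hzn
    exact hwn (Subgroup.mem_sup_left
      (hmax ⟨hle, hzn⟩ le_sup_left (Subgroup.mem_sup_right (Subgroup.mem_zpowers w))))
  have : (Subgroup.zpowers w).Normal := ⟨fun n hn g => by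
    rwa [Subgroup.mem_center_iff.1 (Subgroup.zpowers_le.2 hw hn) g, mul_inv_cancel_right]⟩
  obtain ⟨a, ha, b, ⟨j, rfl⟩, hz'⟩ := Subgroup.mem_sup_of_normal_right.1 hz
  by_cases hj : (p : ℤ) ∣ j
  · rw [show ((fun i : ℤ => w ^ i) j) = 1 from zpow_eq_one_of_dvd (h.center_pow hw) hj, mul_one] at hz'
    exact hA.2 (hz' ▸ ha)
  have hwp : orderOf w = p := orderOf_eq_prime (h.center_pow hw) fun h1 => hwn (h1 ▸ one_mem _)
  have hwj : w ^ j ≠ 1 := fun h1 => hj (by rwa [← orderOf_dvd_iff_zpow_eq_one, hwp] at h1)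
  obtain ⟨s, hs⟩ := mem_zpowers_of_prime_card (g := (⟨w ^ j, ⟨j, rfl⟩⟩ : Subgroup.zpowers w))
    (g' := ⟨w, Subgroup.mem_zpowers w⟩) ((Nat.card_zpowers w).trans hwp) (fun hh => hwj (congrArg Subtype.val hh))
  refine hwn ?_
  have e : w ^ j = a⁻¹ * z := eq_inv_mul_of_mul_eq hz'
  have e2 : w = (w ^ j) ^ s := (congrArg Subtype.val hs).symm
  rw [e2, e]
  exact zpow_mem (mul_mem (Subgroup.mem_sup_left (A.inv_mem ha))
    (Subgroup.mem_sup_right (Subgroup.mem_zpowers z))) _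

/-- The subgroup `⟨x, u, z⟩`. -/
def core (x u z : Q) : Subgroup Q := Subgroup.zpowers x ⊔ (Subgroup.zpowers u ⊔ Subgroup.zpowers z)

theorem Data.mem_core_iff (h : Data Q p z u) {g : Q} :
    g ∈ core x u z ↔ ∃ i j k : ℤ, g = x ^ i * (u ^ j * z ^ k) := by
  constructor
  · intro hg
    have h1 : (Subgroup.zpowers z).Normal := ⟨fun n hn a => by
      rwa [Subgroup.mem_center_iff.1 (h.zpowers_le_center hn) a, mul_inv_cancel_right]⟩
    have h2 : (Subgroup.zpowers u ⊔ Subgroup.zpowers z).Normal := ⟨fun n hn a => by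
      rw [show a * n * a⁻¹ = ⁅a, n⁆ * n by rw [commutatorElement_def, inv_mul_cancel_right]]
      exact mul_mem (Subgroup.mem_sup_right (h.comm a n)) hn⟩
    obtain ⟨a, ⟨i, rfl⟩, b, hb, rfl⟩ := Subgroup.mem_sup_of_normal_right.1 hg
    obtain ⟨c, ⟨j, rfl⟩, d, ⟨k, rfl⟩, rfl⟩ := Subgroup.mem_sup_of_normal_right.1 hb
    exact ⟨i, j, k, rfl⟩
  · rintro ⟨i, j, k, rfl⟩
    exact mul_mem (Subgroup.mem_sup_left ⟨i, rfl⟩)
      (Subgroup.mem_sup_right (mul_mem (Subgroup.mem_sup_left ⟨j, rfl⟩) (Subgroup.mem_sup_right ⟨k, rfl⟩)))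

theorem Data.brackets (h : Data Q p z u) (hx : ⁅x, u⁆ = z) (i j k : ℤ) :
    ⁅x ^ i * (u ^ j * z ^ k), u⁆ = z ^ i ∧ ⁅x ^ i * (u ^ j * z ^ k), x⁆ = z ^ (-j) := by
  have hzk : ∀ y : Q, ⁅z, y⁆ = 1 := fun y => commutatorElement_eq_one_iff_commute.2
    (Subgroup.mem_center_iff.1 h.central y).symm
  simp only [commutator_mul_left h.class_two, commutator_zpow_left h.class_two, hzk, hx,
    commutatorElement_self, one_zpow, mul_one, one_mul, true_and]
  rw [← commutatorElement_inv x u, hx, zpow_neg, inv_zpow]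

theorem Data.center_inf_core (h : Data Q p z u) (hx : ⁅x, u⁆ = z) (hxp : x ^ p = 1) {g : Q}
    (hg : g ∈ core x u z) (hgu : ⁅g, u⁆ = 1) (hgx : ⁅g, x⁆ = 1) : g ∈ Subgroup.zpowers z := by
  obtain ⟨i, j, k, rfl⟩ := h.mem_core_iff.1 hg
  obtain ⟨b1, b2⟩ := h.brackets hx i j k
  rw [b1, h.zpow_eq_one_iff] at hgu
  rw [b2, h.zpow_eq_one_iff, Int.dvd_neg] at hgx
  rw [zpow_eq_one_of_dvd hxp hgu, zpow_eq_one_of_dvd h.u_pow hgx, one_mul, one_mul]
  exact ⟨k, rfl⟩

theorem Data.mem_core_x (_h : Data Q p z u) : x ∈ core x u z := Subgroup.mem_sup_left (Subgroup.mem_zpowers x)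

theorem mem_core_u : u ∈ core x u z :=
  Subgroup.mem_sup_right (Subgroup.mem_sup_left (Subgroup.mem_zpowers u))

theorem mem_core_z : z ∈ core x u z :=
  Subgroup.mem_sup_right (Subgroup.mem_sup_right (Subgroup.mem_zpowers z))

theorem Data.card_core [Finite Q] (h : Data Q p z u) (hx : ⁅x, u⁆ = z) (hxp : x ^ p = 1) :
    Nat.card (core x u z) = p ^ 3 := by
  have hp : 0 < p := (Fact.out : p.Prime).pos
  let f : Fin p × Fin p × Fin p → core x u z := fun t =>
    ⟨x ^ ((t.1 : ℕ) : ℤ) * (u ^ ((t.2.1 : ℕ) : ℤ) * z ^ ((t.2.2 : ℕ) : ℤ)),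
      h.mem_core_iff.2 ⟨_, _, _, rfl⟩⟩
  have hzp : z ^ p = 1 := h.orderz ▸ pow_orderOf_eq_one z
  have hdvd : ∀ {a b : Fin p}, z ^ ((a : ℕ) : ℤ) = z ^ ((b : ℕ) : ℤ) → a = b := by
    intro a b hab
    rw [zpow_natCast, zpow_natCast, pow_inj_mod, h.orderz, Nat.mod_eq_of_lt a.2, Nat.mod_eq_of_lt b.2] at hab
    exact Fin.ext hab
  have hinj : Function.Injective f := by
    rintro ⟨a, b, c⟩ ⟨a', b', c'⟩ hab
    have e := congrArg Subtype.val hab
    simp only [f] at e
    have e1 := congrArg (fun g : Q => ⁅g, u⁆) e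
    have e2 := congrArg (fun g : Q => ⁅g, x⁆) e
    simp only [(h.brackets hx _ _ _).1, (h.brackets hx _ _ _).2, zpow_neg, inv_inj] at e1 e2
    obtain rfl := hdvd e1
    obtain rfl := hdvd e2
    obtain rfl := hdvd (mul_left_cancel (mul_left_cancel e))
    rfl
  have hsurj : Function.Surjective f := by
    rintro ⟨g, hg⟩
    obtain ⟨i, j, k, rfl⟩ := h.mem_core_iff.1 hg
    have red : ∀ (y : Q), y ^ p = 1 → ∀ i : ℤ, ∃ a : Fin p, y ^ ((a : ℕ) : ℤ) = y ^ i := fun y hy i => by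
      have hp' : (p : ℤ) ≠ 0 := by exact_mod_cast hp.ne'
      refine ⟨⟨(i % p).toNat, by have := Int.emod_lt_of_pos i (by exact_mod_cast hp : (0:ℤ) < p); omega⟩, ?_⟩
      show y ^ (((i % p).toNat : ℕ) : ℤ) = y ^ i
      rw [Int.toNat_of_nonneg (Int.emod_nonneg i hp')]
      conv_rhs => rw [← Int.mul_ediv_add_emod i p, zpow_add, zpow_eq_one_of_dvd hy (Dvd.intro _ rfl), one_mul]
    obtain ⟨a, ha⟩ := red x hxp i
    obtain ⟨b, hb⟩ := red u h.u_pow j
    obtain ⟨c, hc⟩ := red z hzp k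
    exact ⟨⟨a, b, c⟩, Subtype.ext (by simp only [f]; rw [ha, hb, hc])⟩
  rw [← Nat.card_eq_of_bijective f ⟨hinj, hsurj⟩, Nat.card_prod, Nat.card_prod, Nat.card_fin]
  ring

/-- `Q` is `⟨x, u⟩ × A`. -/
theorem Data.exists_prod [Finite Q] (h : Data Q p z u) (hx : ⁅x, u⁆ = z) (hxp : x ^ p = 1) :
    ∃ A : Subgroup Q, A ≤ Subgroup.center Q ∧ Nonempty (Q ≃* core x u z × A) := by
  obtain ⟨A, hAc, hAz, hAsup⟩ := h.exists_complement
  let φ : core x u z × A →* Q := MonoidHom.noncommCoprod (core x u z).subtype A.subtype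
    (fun a b => Subgroup.mem_center_iff.1 (hAc b.2) (a : Q))
  have hinj : Function.Injective φ := by
    rw [injective_iff_map_eq_one]
    rintro ⟨⟨e, he⟩, ⟨a, ha⟩⟩ hea
    have hea' : e * a = 1 := hea
    obtain rfl : e = a⁻¹ := mul_eq_one_iff_eq_inv.1 hea'
    have hc : a⁻¹ ∈ Subgroup.center Q := hAc (A.inv_mem ha)
    have hz := h.center_inf_core hx hxp he
      (commutatorElement_eq_one_iff_commute.2 (Subgroup.mem_center_iff.1 hc u).symm)
      (commutatorElement_eq_one_iff_commute.2 (Subgroup.mem_center_iff.1 hc x).symm)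
    have h1 : a⁻¹ ∈ A ⊓ Subgroup.zpowers z := ⟨A.inv_mem ha, hz⟩
    rw [hAz, Subgroup.mem_bot, inv_eq_one] at h1
    subst h1
    exact Prod.ext (Subtype.ext inv_one) (Subtype.ext rfl)
  have hsurj : Function.Surjective φ := by
    intro g
    obtain ⟨i, c, rfl, hc⟩ := h.decomp hx g
    obtain ⟨j, w, rfl, hw⟩ := h.decomp_center hx hc
    rw [← hAsup, sup_comm] at hw
    have : (Subgroup.zpowers z).Normal := ⟨fun n hn a => by
      rwa [Subgroup.mem_center_iff.1 (h.zpowers_le_center hn) a, mul_inv_cancel_right]⟩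
    obtain ⟨d, ⟨k, rfl⟩, a, ha, rfl⟩ := Subgroup.mem_sup_of_normal_left.1 hw
    exact ⟨⟨⟨x ^ i * (u ^ j * z ^ k), h.mem_core_iff.2 ⟨i, j, k, rfl⟩⟩, ⟨a, ha⟩⟩,
      by show x ^ i * (u ^ j * z ^ k) * a = x ^ i * (u ^ j * (z ^ k * a)); simp only [mul_assoc]⟩
  exact ⟨A, hAc, ⟨(MulEquiv.ofBijective φ ⟨hinj, hsurj⟩).symm⟩⟩

end

theorem Data.comm_center (h : Data Q p z u) {A : Subgroup Q} (hA : A ≤ Subgroup.center Q) (a b : A) :
    a * b = b * a :=
  Subtype.ext (Subgroup.mem_center_iff.1 (hA b.2) a)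

/-- A copy in `Type` of a central subgroup, as an abelian group of exponent `p`. -/
theorem Data.exists_small [Finite Q] (h : Data Q p z u) {A : Subgroup Q} (hA : A ≤ Subgroup.center Q) :
    ∃ (B : Type) (_ : CommGroup B), (∀ b : B, b ^ p = 1) ∧ Nonempty (A ≃* B) := by
  let e : Shrink.{0} A ≃* A := Shrink.mulEquiv
  refine ⟨Shrink.{0} A, { (inferInstance : Group (Shrink.{0} A)) with
    mul_comm := fun a b => e.injective (by rw [map_mul, map_mul, h.comm_center hA]) }, fun b => ?_, ⟨e.symm⟩⟩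
  refine e.injective ?_
  show e (b ^ p) = e 1
  rw [map_pow, map_one]
  exact Subtype.ext (by rw [SubgroupClass.coe_pow]; exact h.center_pow (hA (e b).2))

/-- The exception at the prime two. -/
theorem Data.dihedral [Finite Q] (h : Data Q 2 z u) (hG : IsPGroup 2 Q) (hsq : ∀ g : Q, g ^ 2 ∈ Subgroup.zpowers z) :
    ∃ (A : Type) (_ : CommGroup A), (∀ a : A, a ^ 2 = 1) ∧ Nonempty (Q ≃* DihedralGroup 4 × A) := by
  obtain ⟨x₀, hx₀⟩ := h.exists_x
  -- an involution among `x₀`, `x₀ u`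
  obtain ⟨x, hx, hxp⟩ : ∃ x : Q, ⁅x, u⁆ = z ∧ x ^ 2 = 1 := by
    by_cases h2 : x₀ ^ 2 = 1
    · exact ⟨x₀, hx₀, h2⟩
    have hz2 : z ^ 2 = 1 := h.orderz ▸ pow_orderOf_eq_one z
    have e : x₀ ^ 2 = z := by
      obtain ⟨k, hk⟩ := hsq x₀
      rcases Int.even_or_odd' k with ⟨m, rfl | rfl⟩
      · refine absurd ?_ h2
        rw [← hk]
        exact zpow_eq_one_of_dvd hz2 (Dvd.intro m rfl)
      · rw [← hk]
        show z ^ (2 * m + 1) = z
        rw [zpow_add, zpow_eq_one_of_dvd (p := 2) hz2 (Dvd.intro m (by norm_num)), one_mul, zpow_one]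
    refine ⟨x₀ * u, ?_, ?_⟩
    · rw [commutator_mul_left h.class_two, hx₀, commutatorElement_self, mul_one]
    · have hcm : ∀ g : Q, Commute ⁅u, x₀⁆ g := fun g => (Subgroup.mem_center_iff.1
        (CfsgLib.Transfer.commutatorElement_mem_center_of_le h.class_two u x₀) g).symm
      rw [CfsgLib.Transfer.mul_pow_of_commute_commutator (hcm _) (hcm _), e, h.u_pow, mul_one,
        ← commutatorElement_inv x₀ u, hx₀]
      simp
  obtain ⟨A, hA, ⟨e⟩⟩ := h.exists_prod hx hxp
  obtain ⟨B, hBi, hB, ⟨eA⟩⟩ := h.exists_small hA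
  let X : core x u z := ⟨x, h.mem_core_x⟩
  let U : core x u z := ⟨u, mem_core_u⟩
  have hX : X * X = 1 := Subtype.ext (show x * x = 1 by rw [← pow_two, hxp])
  have hU : U * U = 1 := Subtype.ext (show u * u = 1 by rw [← pow_two, h.u_pow])
  have hXi : X⁻¹ = X := inv_eq_of_mul_eq_one_right hX
  have hUi : U⁻¹ = U := inv_eq_of_mul_eq_one_right hU
  let R : core x u z := X * U
  have hR2 : R ^ 2 = ⟨z, mem_core_z⟩ := Subtype.ext (by
    show (x * u) ^ 2 = z
    rw [← hx, commutatorElement_def, pow_two, inv_eq_of_mul_eq_one_right (show x * x = 1 by rw [← pow_two, hxp]),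
      inv_eq_of_mul_eq_one_right (show u * u = 1 by rw [← pow_two, h.u_pow]), ← mul_assoc])
  have hR4 : R ^ 4 = 1 := by
    rw [show 4 = 2 * 2 from rfl, pow_mul, hR2]
    exact Subtype.ext (show z ^ 2 = 1 from h.orderz ▸ pow_orderOf_eq_one z)
  have hRc : X * R * X⁻¹ = R⁻¹ := by
    show X * (X * U) * X⁻¹ = (X * U)⁻¹
    rw [← mul_assoc X X U, hX, one_mul, mul_inv_rev, hUi]
  let f := CfsgLib.Invol.dihedralHom X R hX hR4 hRc
  have hfX : X ∈ f.range := ⟨DihedralGroup.sr 0, by simp [f, CfsgLib.Invol.dihedralHom]⟩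
  have hfR : R ∈ f.range := ⟨DihedralGroup.r 1, by show R ^ (((1 : ZMod 4).val : ℕ) : ℤ) = R; rw [show (1 : ZMod 4).val = 1 from rfl, Nat.cast_one, zpow_one]⟩
  have hsurj : Function.Surjective f := by
    rintro ⟨g, hg⟩
    obtain ⟨i, j, k, rfl⟩ := h.mem_core_iff.1 hg
    have hU' : U ∈ f.range := by
      have := f.range.mul_mem (f.range.inv_mem hfX) hfR
      rwa [show X⁻¹ * R = U from inv_mul_cancel_left X U] at this
    have hZ' : (⟨z, mem_core_z⟩ : core x u z) ∈ f.range := hR2 ▸ f.range.pow_mem hfR 2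
    have := f.range.mul_mem (f.range.zpow_mem hfX i)
      (f.range.mul_mem (f.range.zpow_mem hU' j) (f.range.zpow_mem hZ' k))
    obtain ⟨d, hd⟩ := this
    exact ⟨d, hd.trans (Subtype.ext rfl)⟩
  have hbij : Function.Bijective f := hsurj.bijective_of_nat_card_le
    (le_of_eq (by rw [h.card_core hx hxp, DihedralGroup.nat_card]; rfl))
  exact ⟨B, hBi, hB, ⟨e.trans (MulEquiv.prodCongr (MulEquiv.ofBijective f hbij).symm eA)⟩⟩

theorem card_lt_of_lt {G : Type*} [Group G] [Finite G] {A B : Subgroup G} (hG : IsPGroup p G) (h : A < B) :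
    ∃ a b : ℕ, Nat.card A = p ^ a ∧ Nat.card B = p ^ b ∧ a < b := by
  obtain ⟨a, ha⟩ := (hG.to_subgroup A).exists_card_eq
  obtain ⟨b, hb⟩ := (hG.to_subgroup B).exists_card_eq
  refine ⟨a, b, ha, hb, ?_⟩
  by_contra hab
  refine h.ne (Subgroup.eq_of_le_of_card_ge h.le ?_)
  rw [ha, hb]
  exact Nat.pow_le_pow_right (Fact.out : p.Prime).pos (not_lt.1 hab)

/-- A group with these data of order `p ^ 3` and exponent `p` is extraspecial. -/
theorem Data.isExtraspecial [Finite Q] (h : Data Q p z u) (hcard : Nat.card Q = p ^ 3)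
    (hexp : ∀ g : Q, g ^ p = 1) : Cfsg.IsExtraspecial p Q := by
  have hG : IsPGroup p Q := IsPGroup.of_card hcard
  obtain ⟨x, hx⟩ := h.exists_x
  have hzc : Subgroup.zpowers z = Subgroup.center Q := by
    refine Subgroup.eq_of_le_of_card_ge h.zpowers_le_center ?_
    have h1 : Subgroup.center Q < Subgroup.centralizer {u} := by
      refine lt_of_le_of_ne (Subgroup.center_le_centralizer _) fun he => ?_
      obtain ⟨a, ha⟩ := h.u_noncentral
      have hu : u ∈ Subgroup.center Q := he ▸ Subgroup.mem_centralizer_singleton_iff.2 rfl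
      exact ha (commutatorElement_eq_one_iff_commute.2 (Subgroup.mem_center_iff.1 hu a))
    have h2 : Subgroup.centralizer {u} < (⊤ : Subgroup Q) := by
      refine lt_of_le_of_ne le_top fun he => ?_
      have hxu : x ∈ Subgroup.centralizer {u} := he ▸ Subgroup.mem_top x
      have := commutatorElement_eq_one_iff_commute.2 (Subgroup.mem_centralizer_singleton_iff.1 hxu)
      rw [hx] at this
      have h3 := h.orderz
      rw [this, orderOf_one] at h3
      exact (Fact.out : p.Prime).one_lt.ne h3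
    obtain ⟨a, b, ha, hb, hab⟩ := card_lt_of_lt hG h1
    obtain ⟨b', c, hb', hc, hbc⟩ := card_lt_of_lt hG h2
    rw [Subgroup.card_top, hcard] at hc
    have e1 := Nat.pow_right_injective (Fact.out : p.Prime).two_le hc
    have e2 := Nat.pow_right_injective (Fact.out : p.Prime).two_le (hb.symm.trans hb')
    rw [ha, Nat.card_zpowers, h.orderz]
    calc p ^ a ≤ p ^ 1 := Nat.pow_le_pow_right (Fact.out : p.Prime).pos (by omega)
      _ = p := pow_one p
  have hcomm : commutator Q = Subgroup.center Q := by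
    refine le_antisymm h.class_two (hzc ▸ Subgroup.zpowers_le.2 ?_)
    exact hx ▸ Subgroup.commutator_mem_commutator (Subgroup.mem_top x) (Subgroup.mem_top u)
  refine ⟨⟨hG, ?_, hcomm⟩, by rw [← hzc, Nat.card_zpowers, h.orderz]⟩
  rw [CfsgLib.Transfer.frattini_eq_commutator_sup_pow hG, hcomm, sup_eq_left, Subgroup.closure_le]
  rintro _ ⟨g, rfl⟩
  show g ^ p ∈ Subgroup.center Q
  rw [hexp g]
  exact one_mem _

/-- Data are transported by isomorphisms. -/
theorem Data.map {H : Type*} [Group H] (h : Data Q p z u) (e : Q ≃* H) : Data H p (e z) (e u) := by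
  have hz : ∀ y : Q, y ∈ Subgroup.zpowers z → e y ∈ Subgroup.zpowers (e z) := by
    rintro _ ⟨k, rfl⟩
    exact ⟨k, (map_zpow e z k).symm⟩
  refine ⟨fun a b => ?_, ?_, ?_, ?_, by rw [← map_pow, h.u_pow, map_one], ?_, fun a b ha hb => ?_, fun a ha => ?_⟩
  · obtain ⟨a, rfl⟩ := e.surjective a
    obtain ⟨b, rfl⟩ := e.surjective b
    rw [← map_commutatorElement]
    exact hz _ (h.comm a b)
  · refine Subgroup.mem_center_iff.2 fun g => ?_
    obtain ⟨g, rfl⟩ := e.surjective g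
    rw [← map_mul, ← map_mul, Subgroup.mem_center_iff.1 h.central g]
  · rw [MulEquiv.orderOf_eq, h.orderz]
  · rintro ⟨k, hk⟩
    exact h.u_not ⟨k, e.injective ((map_zpow e z k).trans hk)⟩
  · obtain ⟨a, ha⟩ := h.u_noncentral
    exact ⟨e a, fun hh => ha (e.injective (by rw [map_commutatorElement, hh, map_one]))⟩
  · obtain ⟨a, rfl⟩ := e.surjective a
    obtain ⟨b, rfl⟩ := e.surjective b
    exact (h.cab a b ((commute_map_iff e.injective).1 ha)
      ((commute_map_iff e.injective).1 hb)).map e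
  · obtain ⟨a, rfl⟩ := e.surjective a
    rw [← map_pow, h.cexp a ((commute_map_iff e.injective).1 ha), map_one]

/-- The exception at odd primes. -/
theorem Data.extraspecial [Finite Q] (h : Data Q p z u) (hp2 : p ≠ 2) {x₀ : Q} (hx₀ : ⁅x₀, u⁆ ≠ 1)
    (hxp₀ : x₀ ^ p = 1) :
    ∃ (E : Type) (_ : Group E) (A : Type) (_ : CommGroup A), Cfsg.IsExtraspecial p E ∧ Nat.card E = p ^ 3 ∧
      Monoid.exponent E = p ∧ (∀ a : A, a ^ p = 1) ∧ Nonempty (Q ≃* E × A) := by
  have hc : Nat.card (Subgroup.zpowers z) = p := (Nat.card_zpowers z).trans h.orderz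
  obtain ⟨k, hk⟩ := mem_zpowers_of_prime_card (g := (⟨⁅x₀, u⁆, h.comm x₀ u⟩ : Subgroup.zpowers z))
    (g' := ⟨z, Subgroup.mem_zpowers z⟩) hc (fun hh => hx₀ (congrArg Subtype.val hh))
  set x := x₀ ^ k with hxdef
  have hx : ⁅x, u⁆ = z := (commutator_zpow_left h.class_two x₀ u k).trans (congrArg Subtype.val hk)
  have hxp : x ^ p = 1 := by
    rw [hxdef, ← zpow_natCast, ← zpow_mul, mul_comm, zpow_mul, zpow_natCast, hxp₀, one_zpow]
  obtain ⟨A, hA, ⟨e⟩⟩ := h.exists_prod hx hxp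
  obtain ⟨B, hBi, hB, ⟨eA⟩⟩ := h.exists_small hA
  let Z : core x u z := ⟨z, mem_core_z⟩
  let U : core x u z := ⟨u, mem_core_u⟩
  have hE : Data (core x u z) p Z U := by
    refine ⟨fun a b => ?_, Subgroup.mem_center_iff.2 fun g => Subtype.ext (Subgroup.mem_center_iff.1 h.central g),
      (Subgroup.orderOf_coe Z).symm.trans h.orderz, fun ⟨m, hm⟩ => h.u_not ⟨m, congrArg Subtype.val hm⟩,
      Subtype.ext h.u_pow, ⟨⟨x, h.mem_core_x⟩, fun hh => ?_⟩, fun a b ha hb => ?_, fun a ha => ?_⟩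
    · obtain ⟨m, hm⟩ := h.comm (a : Q) b
      exact ⟨m, Subtype.ext hm⟩
    · have e1 : ⁅x, u⁆ = 1 := congrArg Subtype.val hh
      rw [hx] at e1
      have h3 := h.orderz
      rw [e1, orderOf_one] at h3
      exact (Fact.out : p.Prime).one_lt.ne h3
    · exact Subtype.ext (h.cab _ _ (congrArg Subtype.val ha.eq) (congrArg Subtype.val hb.eq)).eq
    · exact Subtype.ext (h.cexp _ (congrArg Subtype.val ha.eq))
  have hexp : ∀ g : core x u z, g ^ p = 1 := by
    rintro ⟨g, hg⟩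
    refine Subtype.ext ?_
    show g ^ p = 1
    obtain ⟨i, c, rfl, hcu⟩ := h.decomp hx g
    have hcm : ∀ y : Q, Commute ⁅c, x ^ i⁆ y := fun y => (Subgroup.mem_center_iff.1
      (CfsgLib.Transfer.commutatorElement_mem_center_of_le h.class_two c (x ^ i)) y).symm
    have hch : p ∣ p.choose 2 := Nat.Prime.dvd_choose_self Fact.out two_ne_zero
      (lt_of_le_of_ne (Fact.out : p.Prime).two_le (Ne.symm hp2))
    rw [CfsgLib.Transfer.mul_pow_of_commute_commutator (hcm _) (hcm _), h.cexp c hcu]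
    obtain ⟨m, hm⟩ := hch
    obtain ⟨n, hn⟩ := h.comm c (x ^ i)
    have e1 : (x ^ i) ^ p = 1 := by
      rw [← zpow_natCast, ← zpow_mul]
      exact zpow_eq_one_of_dvd hxp (Dvd.intro_left i rfl)
    have e2 : (z ^ n) ^ p = 1 := by
      rw [← zpow_natCast, ← zpow_mul]
      exact zpow_eq_one_of_dvd (h.orderz ▸ pow_orderOf_eq_one z) (Dvd.intro_left n rfl)
    rw [← hn, hm, pow_mul, show ((fun k : ℤ => z ^ k) n) = z ^ n from rfl, e1, e2, one_pow, one_mul, one_mul]
  let s : core x u z ≃* Shrink.{0} (core x u z) := Shrink.mulEquiv.symm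
  have : Finite (Shrink.{0} (core x u z)) := Finite.of_equiv _ s.toEquiv
  have hcard : Nat.card (Shrink.{0} (core x u z)) = p ^ 3 :=
    (Nat.card_congr s.toEquiv).symm.trans (h.card_core hx hxp)
  have hexp' : ∀ g : Shrink.{0} (core x u z), g ^ p = 1 := fun g =>
    s.symm.injective (by rw [map_pow, hexp, map_one])
  refine ⟨Shrink.{0} (core x u z), inferInstance, B, hBi, (hE.map s).isExtraspecial hcard hexp', hcard, ?_, hB,
    ⟨e.trans (MulEquiv.prodCongr s eA)⟩⟩
  refine ((Nat.dvd_prime Fact.out).1 (Monoid.exponent_dvd_of_forall_pow_eq_one hexp')).resolve_left fun he => ?_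
  have := Monoid.exp_eq_one_iff.1 he
  rw [Nat.card_of_subsingleton (1 : Shrink.{0} (core x u z))] at hcard
  exact (Nat.one_lt_pow (by norm_num) (Fact.out : p.Prime).one_lt).ne hcard

end CfsgLib.FusionGenExtra
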