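import Cfsg.Agent.Lib.Fusion.Stability

/-!
# Two opposite transvections of an abelian group
-/

set_option autoImplicit false

namespace CfsgLib.FusionGenExtra

variable {C : Type*} [Group C]

/-- Opposite transvections `t`, `s` give an automorphism commuting with `t` and inverting its centre. -/
theorem exists_inversion (hab : ∀ a b : C, a * b = b * a) {t s : MulAut C} {u z : C} (htu : t u = u * z)
    (htz : t z = z) (htd : ∀ c, ∃ a : ℤ, t c = c * z ^ a) (hsu : s u = u) (hsz : s z = z * u⁻¹)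
    (hsd : ∀ c, ∃ b : ℤ, s c = c * u ^ b) :
    ((t * s * t) * (t * s * t)) z = z⁻¹ ∧
      (t * s * t) * (t * s * t) * t = t * ((t * s * t) * (t * s * t)) := by
  letI : CommGroup C := { (inferInstance : Group C) with mul_comm := hab }
  set w := t * s * t with hw
  have hwu : w u = z := by
    simp only [hw, MulAut.mul_apply, htu, hsu, hsz, htz, map_mul, map_inv]
    simp [mul_comm, mul_assoc, mul_left_comm]
  have hwz : w z = u⁻¹ := by
    simp only [hw, MulAut.mul_apply, htz, hsz, map_mul, map_inv, htu, mul_inv_rev]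
    simp [mul_comm, mul_assoc, mul_left_comm]
  have hι : ∀ c, (w * w) c = w (w c) := fun c => rfl
  have hιz : (w * w) z = z⁻¹ := by rw [hι, hwz, map_inv, hwu]
  have hιu : (w * w) u = u⁻¹ := by rw [hι, hwu, hwz]
  refine ⟨hιz, MulEquiv.ext fun c => ?_⟩
  obtain ⟨a, ha⟩ := htd c
  obtain ⟨b, hb⟩ := hsd c
  set c' := c * u ^ (-a) * z ^ b with hc'
  have htc : t c' = c' := by
    simp only [hc', map_mul, map_inv, map_zpow, ha, htu, htz, mul_zpow, zpow_neg, mul_inv_rev]
    simp [mul_comm, mul_assoc, mul_left_comm]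
  have hsc : s c' = c' := by
    simp only [hc', map_mul, map_inv, map_zpow, hb, hsu, hsz, mul_zpow, zpow_neg, inv_zpow, mul_inv_rev]
    simp [mul_comm, mul_assoc, mul_left_comm]
  have hιc : (w * w) c' = c' := by
    simp only [hw, MulAut.mul_apply, htc, hsc]
  have hc : c = c' * u ^ a * z ^ (-b) := by
    simp only [hc', zpow_neg]
    simp [mul_comm, mul_assoc, mul_left_comm]
  show (w * w) (t c) = t ((w * w) c)
  rw [ha]
  conv_rhs => rw [hc]
  conv_lhs => rw [hc]
  simp only [map_mul, map_zpow, map_inv, hιz, hιu, hιc, htz, htu, htc, mul_zpow, inv_zpow, zpow_neg, mul_inv_rev,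
    inv_inv]
  simp [mul_comm, mul_assoc, mul_left_comm]

theorem pow_apply_of_fixed {f : MulAut C} {u c : C} {b : ℤ} (hu : f u = u) (hc : f c = c * u ^ b) (k : ℕ) :
    (f ^ k) c = c * (u ^ b) ^ k := by
  induction k with
  | zero => simp
  | succ k ih => rw [pow_succ' f, MulAut.mul_apply, ih, map_mul, map_pow, map_zpow, hu, hc, pow_succ', mul_assoc]

/-- Automorphisms stabilizing `C ≥ ⟨u, z⟩ ≥ ⟨z⟩` generate a `p`-group. -/
theorem isPGroup_closure [Finite C] {p : ℕ} [Fact p.Prime] (hC : IsPGroup p C) (hab : ∀ a b : C, a * b = b * a)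
    {u z : C} (X : Set (MulAut C))
    (hX : ∀ f ∈ X, f z = z ∧ (∃ a : ℤ, f u = u * z ^ a) ∧ ∀ c, ∃ a b : ℤ, f c = c * u ^ a * z ^ b) :
    IsPGroup p (Subgroup.closure X) := by
  letI : CommGroup C := { (inferInstance : Group C) with mul_comm := hab }
  have : Finite (MulAut C) := CfsgLib.Fusion.finite_mulAut
  let M : Submonoid (MulAut C) :=
    { carrier := {f | f z = z ∧ (∃ a : ℤ, f u = u * z ^ a) ∧ ∀ c, ∃ a b : ℤ, f c = c * u ^ a * z ^ b}
      one_mem' := ⟨rfl, ⟨0, by simp⟩, fun c => ⟨0, 0, by simp⟩⟩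
      mul_mem' := by
        rintro f g ⟨hf, ⟨a, ha⟩, hf'⟩ ⟨hg, ⟨b, hb⟩, hg'⟩
        refine ⟨by rw [MulAut.mul_apply, hg, hf],
          ⟨a + b, by rw [MulAut.mul_apply, hb, map_mul, map_zpow, hf, ha, zpow_add, mul_assoc]⟩, fun c => ?_⟩
        obtain ⟨i, j, hij⟩ := hg' c
        obtain ⟨k, l, hkl⟩ := hf' c
        refine ⟨k + i, l + a * i + j, ?_⟩
        rw [MulAut.mul_apply, hij, map_mul, map_mul, map_zpow, map_zpow, hf, ha, hkl, mul_zpow, ← zpow_mul,
          zpow_add, zpow_add, zpow_add]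
        simp [mul_comm, mul_left_comm, mul_assoc] }
  have hle : (Subgroup.closure X).toSubmonoid ≤ M := by
    rw [Subgroup.closure_toSubmonoid_of_finite]
    exact Submonoid.closure_le.2 hX
  refine CfsgLib.Fusion.Stability.isPGroup_of_coprime_eq_one fun f hf => ?_
  obtain ⟨hz, ⟨a, ha⟩, hall⟩ := hle f.2
  have hord : (orderOf (f : MulAut C)).Coprime p := by rwa [Subgroup.orderOf_coe]
  have hu : (f : MulAut C) u = u := CfsgLib.Fusion.Stability.eq_self_of_disp_fixed hC _ hord (by
    rw [ha, inv_mul_cancel_left, map_zpow, hz])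
  refine Subtype.ext (MulEquiv.ext fun c => ?_)
  obtain ⟨i, j, hij⟩ := hall c
  exact CfsgLib.Fusion.Stability.eq_self_of_disp_fixed hC _ hord (by
    rw [hij, mul_assoc, inv_mul_cancel_left, map_mul, map_zpow, map_zpow, hu, hz])

end CfsgLib.FusionGenExtra
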