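import Cfsg.Agent.Lib.Fusion.Stability
import Cfsg.Agent.Lib.FusionExtraspecial.Basic
import Cfsg.Agent.Lib.FusionGenExtra.Structure
import Cfsg.Agent.Lib.FusionGenExtra.Swap

/-!
# Strongly closed generalized extraspecial subgroups are normal
-/

set_option autoImplicit false

namespace CfsgLib.FusionGenExtra

open Cfsg Cfsg.FusionSystem CfsgLib.Fusion
open scoped commutatorElement

variable {Ω : Type*} [Group Ω] {S P : Subgroup Ω} {F : Cfsg.FusionSystem S} {p : ℕ} [Fact p.Prime] [Finite S]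

theorem eq_one_of_mem_inter {Γ : Type*} [Group Γ] {u z : Γ} (hu : u ^ p = 1) (hnot : u ∉ Subgroup.zpowers z)
    {g : Γ} (h1 : g ∈ Subgroup.zpowers u) (h2 : g ∈ Subgroup.zpowers z) : g = 1 := by
  by_contra hg
  have hu1 : u ≠ 1 := fun h => hnot (h ▸ one_mem _)
  obtain ⟨k, hk⟩ := mem_zpowers_of_prime_card (g := (⟨g, h1⟩ : Subgroup.zpowers u))
    (g' := ⟨u, Subgroup.mem_zpowers u⟩) ((Nat.card_zpowers u).trans (orderOf_eq_prime hu hu1))
    (fun h => hg (congrArg Subtype.val h))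
  have e : g ^ k = u := congrArg Subtype.val hk
  exact hnot (e ▸ Subgroup.zpow_mem _ h2 k)

theorem coe_mem_zpowers {z g : P} : (g : Ω) ∈ Subgroup.zpowers (z : Ω) ↔ g ∈ Subgroup.zpowers z := by
  constructor
  · rintro ⟨k, hk⟩
    exact ⟨k, Subtype.ext (by rw [SubgroupClass.coe_zpow]; exact hk)⟩
  · rintro ⟨k, rfl⟩
    exact ⟨k, (SubgroupClass.coe_zpow z k).symm⟩

/-- The data arising from a conjugate of `z` outside `⟨z⟩`. -/
theorem exists_data (hS : IsPGroup p S) (hF : F.IsSaturated p) (hP : F.StronglyClosed P) {z : P}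
    (hzS : ∀ s ∈ S, s * (z : Ω) = z * s) (horder : orderOf z = p) (hcomm : ∀ a b : P, ⁅a, b⁆ ∈ Subgroup.zpowers z)
    (hpow : ∀ a : P, a ^ p ∈ Subgroup.zpowers z) (hne : ∃ a b : P, ⁅a, b⁆ ≠ 1)
    {φ : Subgroup.zpowers (z : Ω) →* Ω} (hφ : φ ∈ F.Hom (Subgroup.zpowers (z : Ω)))
    (hout : φ ⟨z, Subgroup.mem_zpowers _⟩ ∉ Subgroup.zpowers (z : Ω)) :
    ∃ u : P, (u : Ω) = φ ⟨z, Subgroup.mem_zpowers _⟩ ∧ Data P p z u := by
  set v := φ ⟨z, Subgroup.mem_zpowers _⟩ with hv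
  have hDP : Subgroup.zpowers (z : Ω) ≤ P := Subgroup.zpowers_le.2 z.2
  have hvP : v ∈ P := hP.2 _ hDP φ hφ ⟨z, Subgroup.mem_zpowers _⟩
  have hzp : (z : Ω) ^ p = 1 := by
    have := pow_orderOf_eq_one z
    rw [horder] at this
    exact congrArg Subtype.val this
  have hvp : v ^ p = 1 := by
    rw [hv, ← map_pow, show (⟨z, Subgroup.mem_zpowers _⟩ : Subgroup.zpowers (z : Ω)) ^ p = 1 from
      Subtype.ext hzp, map_one]
  refine ⟨⟨v, hvP⟩, rfl, ?_⟩
  have hDS : Subgroup.zpowers (z : Ω) ≤ S := hDP.trans hP.1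
  have hrange : φ.range = Subgroup.zpowers v := by
    ext y
    constructor
    · rintro ⟨⟨_, k, rfl⟩, rfl⟩
      exact ⟨k, by
        show v ^ k = _
        rw [hv, ← map_zpow]
        exact congrArg φ (Subtype.ext (SubgroupClass.coe_zpow _ k))⟩
    · rintro ⟨k, rfl⟩
      exact ⟨⟨z, Subgroup.mem_zpowers _⟩ ^ k, by rw [map_zpow]⟩
  obtain ⟨e₀, he₀, he₀app⟩ := exists_iso hφ hrange
  have hfc : F.IsFullyCentralized (Subgroup.zpowers (z : Ω)) := by
    refine ⟨hDS, fun Q _ => ?_⟩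
    have hcs : centralizerIn S (Subgroup.zpowers (z : Ω)) = S := inf_eq_left.2 fun s hs => by
      rw [Subgroup.mem_centralizer_iff]
      rintro _ ⟨k, rfl⟩
      exact ((show Commute s (z : Ω) from hzS s hs).zpow_right k).eq.symm
    rw [hcs]
    exact Nat.card_le_card_of_injective _ (Subgroup.inclusion_injective (centralizerIn_le S Q))
  have hcent : ∀ g : Ω, g * v = v * g → g ∈ Subgroup.centralizer (Subgroup.zpowers v : Set Ω) := by
    intro g hg
    rw [Subgroup.mem_centralizer_iff]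
    rintro _ ⟨k, rfl⟩
    exact ((show Commute g v from hg).zpow_right k).eq.symm
  set R : Subgroup Ω := P ⊓ Subgroup.centralizer ({v} : Set Ω) with hR
  have hvR : Subgroup.zpowers v ≤ R :=
    Subgroup.zpowers_le.2 ⟨hvP, Subgroup.mem_centralizer_singleton_iff.2 rfl⟩
  have hRN : R ≤ normalizerIn S (Subgroup.zpowers v) := fun g hg =>
    ⟨hP.1 hg.1, centralizer_le_normalizer _ (hcent g (Subgroup.mem_centralizer_singleton_iff.1 hg.2))⟩
  obtain ⟨ψ, hψ, -, hψext⟩ := he₀.symm.exists_extension (isReceptive_of_isFullyCentralized hS hF hfc) hvR hRN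
    (fun g hg => by
      rw [(conjAut_eq_one_iff (hRN hg).2).2 (hcent g (Subgroup.mem_centralizer_singleton_iff.1 hg.2)), map_one]
      exact one_mem _)
  have hψP : ∀ r : R, ψ r ∈ P := fun r => hP.2 R inf_le_left ψ hψ r
  have hψv : ψ ⟨v, hvR (Subgroup.mem_zpowers v)⟩ = (z : Ω) := by
    rw [hψext ⟨v, Subgroup.mem_zpowers v⟩]
    have h1 : e₀ ⟨z, Subgroup.mem_zpowers _⟩ = ⟨v, Subgroup.mem_zpowers v⟩ :=
      Subtype.ext (he₀app ⟨z, Subgroup.mem_zpowers _⟩)
    rw [← h1, MulEquiv.symm_apply_apply]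
  have key : ∀ r : R, (r : Ω) ∈ Subgroup.zpowers (z : Ω) → ψ r ∈ Subgroup.zpowers (z : Ω) → r = 1 := by
    intro r hr ⟨k, hk⟩
    have : r = ⟨v, hvR (Subgroup.mem_zpowers v)⟩ ^ k := hom_inj hψ (by rw [map_zpow, hψv]; exact hk.symm)
    refine Subtype.ext (eq_one_of_mem_inter hvp hout ⟨k, ?_⟩ hr)
    rw [this, SubgroupClass.coe_zpow]
  have hmemR : ∀ a : P, Commute a ⟨v, hvP⟩ → (a : Ω) ∈ R := fun a ha =>
    ⟨a.2, Subgroup.mem_centralizer_singleton_iff.2 (congrArg Subtype.val ha.eq)⟩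
  have cab : ∀ a b : P, Commute a ⟨v, hvP⟩ → Commute b ⟨v, hvP⟩ → Commute a b := by
    intro a b ha hb
    rw [← commutatorElement_eq_one_iff_commute]
    have h1 := key ⁅(⟨a, hmemR a ha⟩ : R), ⟨b, hmemR b hb⟩⁆ (coe_mem_zpowers.2 (hcomm a b)) (by
      rw [map_commutatorElement]
      exact coe_mem_zpowers.2 (hcomm ⟨_, hψP ⟨a, hmemR a ha⟩⟩ ⟨_, hψP ⟨b, hmemR b hb⟩⟩))
    exact Subtype.ext (congrArg (fun r : R => (r : Ω)) h1)
  refine
    { comm := hcomm
      central := Subgroup.mem_center_iff.2 fun g => Subtype.ext (hzS g (hP.1 g.2))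
      orderz := horder
      u_not := fun h => hout (coe_mem_zpowers.2 h)
      u_pow := Subtype.ext hvp
      u_noncentral := ?_
      cab := cab
      cexp := fun a ha => ?_ }
  · by_contra hh
    push Not at hh
    obtain ⟨a, b, hab⟩ := hne
    exact hab (commutatorElement_eq_one_iff_commute.2
      (cab a b (commutatorElement_eq_one_iff_commute.1 (hh a)) (commutatorElement_eq_one_iff_commute.1 (hh b))))
  · have h1 := key ((⟨a, hmemR a ha⟩ : R) ^ p) (coe_mem_zpowers.2 (hpow a)) (by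
      rw [map_pow]
      exact coe_mem_zpowers.2 (hpow ⟨_, hψP ⟨a, hmemR a ha⟩⟩))
    exact Subtype.ext (congrArg (fun r : R => (r : Ω)) h1)

/-- The odd case without the exceptional structure is impossible. -/
theorem false_of_data (hS : IsPGroup p S) (hF : F.IsSaturated p) (hp2 : p ≠ 2) (hP : F.StronglyClosed P) {z u : P}
    (h : Data P p z u) (hpow : ∀ a : P, a ^ p ∈ Subgroup.zpowers z)
    (hnox : ∀ a : P, ⁅a, u⁆ ≠ 1 → a ^ p ≠ 1)
    {φ : Subgroup.zpowers (z : Ω) →* Ω} (hφ : φ ∈ F.Hom (Subgroup.zpowers (z : Ω)))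
    (hφu : φ ⟨z, Subgroup.mem_zpowers _⟩ = (u : Ω)) : False := by
  have : Finite P := finite_of_le hP.1
  obtain ⟨x, hx⟩ := h.exists_x
  set C : Subgroup Ω := P ⊓ Subgroup.centralizer ({(u : Ω)} : Set Ω) with hC
  have hCu : ∀ g : P, (g : Ω) ∈ C ↔ Commute g u := fun g =>
    ⟨fun hg => Subtype.ext (Subgroup.mem_centralizer_singleton_iff.1 hg.2),
      fun hg => ⟨g.2, Subgroup.mem_centralizer_singleton_iff.2 (congrArg Subtype.val hg.eq)⟩⟩
  have hCsc : F.StronglyClosed C := by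
    refine ⟨inf_le_left.trans hP.1, fun R hR ψ hψ r => ?_⟩
    have hmem : ψ r ∈ P := hP.2 R (hR.trans inf_le_left) ψ hψ r
    refine (hCu ⟨ψ r, hmem⟩).2 (commutatorElement_eq_one_iff_commute.1 ?_)
    by_contra hne
    refine hnox _ hne (Subtype.ext ?_)
    have hrp : r ^ p = 1 := Subtype.ext (congrArg (fun g : P => (g : Ω))
      (h.cexp ⟨r, (hR r.2).1⟩ ((hCu ⟨r, (hR r.2).1⟩).1 (hR r.2))))
    show (ψ r) ^ p = 1
    rw [← map_pow, hrp, map_one]
  have habC : ∀ a b : C, a * b = b * a := fun a b => Subtype.ext (congrArg (fun g : P => (g : Ω))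
    (h.cab ⟨a, a.2.1⟩ ⟨b, b.2.1⟩ ((hCu ⟨a, a.2.1⟩).1 a.2) ((hCu ⟨b, b.2.1⟩).1 b.2)).eq)
  have hCn : F.IsNormal C := Stability.isNormal_of_abelian hS hF hCsc
    fun a ha b hb => congrArg Subtype.val (habC ⟨a, ha⟩ ⟨b, hb⟩)
  have hNC := Fusion.stronglyClosed_le_normalizer hCsc
  have hCS := hCsc.1
  have : Finite C := finite_of_le hCS
  have : Finite (MulAut C) := finite_mulAut
  let zC : C := ⟨z, (hCu z).2 (Subgroup.mem_center_iff.1 h.central u).symm⟩
  let uC : C := ⟨u, (hCu u).2 (Commute.refl u)⟩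
  -- an automorphism of `C` moving `z` to `u`
  obtain ⟨ψ₀, hψ₀, hψ₀ext, -⟩ := hCn.2 _ φ hφ
  let χ := ψ₀.comp (Subgroup.inclusion (le_sup_right (a := Subgroup.zpowers (z : Ω)) (b := C)))
  have hχ : χ ∈ F.Hom C := restrict_mem hψ₀ _
  obtain ⟨α, hα, hαapp⟩ := exists_aut hχ (range_eq_of_le (hom_inj hχ) fun c => hCsc.2 C le_rfl χ hχ c)
  have hαz : α zC = uC := Subtype.ext (by
    rw [hαapp]
    show ψ₀ _ = (u : Ω)
    rw [← hφu, ← hψ₀ext]
    exact congrArg ψ₀ (Subtype.ext rfl))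
  -- the transvection
  set t := conjAut C x (hNC (hP.1 x.2)) with ht
  have htF : t ∈ F.autGroup C :=
    autInducedBy_le_autGroup F hCS (conjAut_mem_autInducedBy (hP.1 x.2) _)
  have htd : ∀ c : C, ∃ a : ℤ, t c = c * zC ^ a := by
    intro c
    obtain ⟨a, ha⟩ := h.comm x ⟨c, c.2.1⟩
    refine ⟨a, Subtype.ext ?_⟩
    rw [habC]
    show ((conjAut C x _ c : C) : Ω) = _
    rw [conjAut_apply, Subgroup.coe_mul, SubgroupClass.coe_zpow]
    have e : (z : Ω) ^ a = x * (c : Ω) * (x : Ω)⁻¹ * (c : Ω)⁻¹ := by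
      have h1 := congrArg (fun g : P => (g : Ω)) ha
      simpa [commutatorElement_def] using h1
    rw [e, inv_mul_cancel_right]
  have htu : t uC = uC * zC := by
    rw [habC]
    refine Subtype.ext ?_
    show (x : Ω) * u * (x : Ω)⁻¹ = (z : Ω) * u
    have e : (x : Ω) * u * (x : Ω)⁻¹ * (u : Ω)⁻¹ = z := by
      have h1 := congrArg (fun g : P => (g : Ω)) hx
      simpa [commutatorElement_def] using h1
    rw [← e, inv_mul_cancel_right]
  have htz : t zC = zC := Subtype.ext (by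
    show (x : Ω) * z * (x : Ω)⁻¹ = z
    rw [mul_inv_eq_iff_eq_mul]
    exact congrArg Subtype.val (Subgroup.mem_center_iff.1 h.central x))
  -- extensions to `P`
  have hCfn : F.IsFullyNormalized C := by
    refine ⟨hCS, fun Q _ => ?_⟩
    rw [show normalizerIn S C = S from inf_eq_left.2 hNC]
    exact Nat.card_le_card_of_injective _ (Subgroup.inclusion_injective (normalizerIn_le S Q))
  have hCP : C ≤ P := inf_le_left
  have hext : ∀ β : MulAut C, β ∈ F.autGroup C → β * t * β⁻¹ ∈ autInducedBy S C →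
      ∃ ψ : P →* Ω, ψ ∈ F.Hom P ∧ ∀ c : C, ψ ⟨c, hCP c.2⟩ = (β c : Ω) := by
    intro β hβ hβt
    have hact : ∀ g (hg : g ∈ P),
        MulAut.congr (β : C ≃* C) (conjAut C g (hNC (hP.1 hg))) ∈ autInducedBy S C := by
      intro g hg
      obtain ⟨i, c, hgc, hc⟩ := h.decomp hx ⟨g, hg⟩
      have e : conjAut C g (hNC (hP.1 hg)) = t ^ i := by
        have e1 : (⟨g, hNC (hP.1 hg)⟩ : Subgroup.normalizer (C : Set Ω)) =
            ⟨x, hNC (hP.1 x.2)⟩ ^ i * ⟨c, hNC (hP.1 c.2)⟩ :=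
          Subtype.ext (by
            rw [Subgroup.coe_mul, SubgroupClass.coe_zpow]
            simpa using congrArg Subtype.val hgc)
        show C.normalizerMonoidHom _ = _
        rw [e1, map_mul, map_zpow]
        show t ^ i * conjAut C c _ = t ^ i
        have hcC : (c : Ω) ∈ Subgroup.centralizer (C : Set Ω) := Subgroup.mem_centralizer_iff.2
          fun d (hd : d ∈ C) => congrArg Subtype.val (h.cab ⟨d, hd.1⟩ c ((hCu ⟨d, hd.1⟩).1 hd) hc).eq
        rw [(conjAut_eq_one_iff _).2 hcC, mul_one]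
      rw [e, show MulAut.congr (β : C ≃* C) (t ^ i) = β * t ^ i * β⁻¹ from MulEquiv.ext fun _ => rfl, ← conj_zpow]
      exact Subgroup.zpow_mem _ hβt i
    obtain ⟨ψ, hψ, -, hag⟩ := ((mem_autGroup_iff hCS).1 hβ).exists_extension
      (isReceptive_of_isFullyNormalized hS hF hCfn) hCP (R := P)
      (fun g hg => (⟨hP.1 hg, hNC (hP.1 hg)⟩ : g ∈ normalizerIn S C)) hact
    exact ⟨ψ, hψ, hag⟩
  have hmap_z : ∀ β : MulAut C, β ∈ F.autGroup C → β * t * β⁻¹ ∈ autInducedBy S C →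
      ∃ k : ℤ, β zC = zC ^ k := by
    intro β hβ hβt
    obtain ⟨ψ, hψ, hag⟩ := hext β hβ hβt
    have hψP : ∀ a : P, ψ a ∈ P := fun a => hP.2 P le_rfl ψ hψ a
    obtain ⟨k, hk⟩ := h.comm ⟨ψ x, hψP x⟩ ⟨ψ u, hψP u⟩
    refine ⟨k, Subtype.ext ?_⟩
    rw [SubgroupClass.coe_zpow, ← hag, show (⟨zC, hCP zC.2⟩ : P) = ⁅x, u⁆ from hx ▸ rfl, map_commutatorElement]
    exact (congrArg Subtype.val hk).symm.trans (SubgroupClass.coe_zpow z k) |>.trans rfl
  -- the second transvection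
  set s₀ := α * t * α⁻¹ with hs₀
  have hs₀F : s₀ ∈ F.autGroup C := mul_mem (mul_mem hα htF) (inv_mem hα)
  have hs₀d : ∀ c : C, ∃ b : ℤ, s₀ c = c * uC ^ b := by
    intro c
    obtain ⟨a, ha⟩ := htd (α⁻¹ c)
    refine ⟨a, ?_⟩
    rw [hs₀, MulAut.mul_apply, MulAut.mul_apply, ha, map_mul, map_zpow, hαz, MulAut.apply_inv_self]
  have hs₀u : s₀ uC = uC := by
    rw [hs₀, MulAut.mul_apply, MulAut.mul_apply, ← hαz, MulAut.inv_apply_self, htz]
  obtain ⟨m, hm⟩ := hs₀d zC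
  have huC : uC ^ p = 1 := Subtype.ext (congrArg (fun g : P => (g : Ω)) h.u_pow)
  have huC1 : uC ≠ 1 := fun he => h.u_not (by
    have : u = 1 := Subtype.ext (congrArg Subtype.val he :)
    rw [this]
    exact one_mem _)
  have hum : uC ^ m ≠ 1 := by
    intro hum
    have hY := isPGroup_closure (p := p) (isPGroup_of_le hS hCS) habC (u := uC) (z := zC) {t, s₀} (by
      rintro f (rfl | rfl)
      · exact ⟨htz, ⟨1, by rw [zpow_one, htu]⟩, fun c => by
          obtain ⟨a, ha⟩ := htd c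
          exact ⟨0, a, by rw [zpow_zero, mul_one, ha]⟩⟩
      · exact ⟨by rw [hm, hum, mul_one], ⟨0, by rw [hs₀u, zpow_zero, mul_one]⟩, fun c => by
          obtain ⟨b, hb⟩ := hs₀d c
          exact ⟨b, 0, by rw [zpow_zero, mul_one, hb]⟩⟩)
    obtain ⟨-, T, hT⟩ := isFullyAutomized_of_isFullyNormalized hS hF hCfn
    have hle : Subgroup.closure {t, s₀} ≤ F.autGroup C := by
      rw [Subgroup.closure_le]
      rintro f (rfl | rfl)
      exacts [htF, hs₀F]
    obtain ⟨g, hg⟩ := exists_conj_le_sylow T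
      (hY.of_equiv (Subgroup.subgroupOfEquivOfLe hle).symm)
    have h1 := hg ⟨t, htF⟩ (Subgroup.subset_closure (Or.inl rfl))
    have h2 := hg ⟨s₀, hs₀F⟩ (Subgroup.subset_closure (Or.inr rfl))
    rw [hT] at h1 h2
    have k1 : (g : MulAut C) * t * (g : MulAut C)⁻¹ ∈ autInducedBy S C := h1
    have k2 : (g : MulAut C) * s₀ * (g : MulAut C)⁻¹ ∈ autInducedBy S C := h2
    obtain ⟨a, ha⟩ := hmap_z g g.2 k1
    obtain ⟨b, hb⟩ := hmap_z ((g : MulAut C) * α) (mul_mem g.2 hα) (by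
      rw [show (g : MulAut C) * α * t * ((g : MulAut C) * α)⁻¹ = (g : MulAut C) * s₀ * (g : MulAut C)⁻¹ by
        rw [hs₀]; group]
      exact k2)
    rw [MulAut.mul_apply, hαz] at hb
    have hzC : orderOf zC = p := by
      rw [← Subgroup.orderOf_coe zC]
      exact (Subgroup.orderOf_coe z).trans h.orderz
    obtain ⟨c, hc⟩ := mem_zpowers_of_prime_card (g := (⟨zC ^ a, ⟨a, rfl⟩⟩ : Subgroup.zpowers zC))
      (g' := ⟨zC ^ b, ⟨b, rfl⟩⟩) ((Nat.card_zpowers zC).trans hzC)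
      (fun he => by
        have e1 : zC ^ a = 1 := congrArg Subtype.val he
        rw [← ha, MulEquiv.map_eq_one_iff] at e1
        rw [e1, orderOf_one] at hzC
        exact (Fact.out : p.Prime).one_lt.ne hzC)
    have e2 : (zC ^ a) ^ c = zC ^ b := congrArg Subtype.val hc
    rw [← ha, ← hb, ← map_zpow] at e2
    exact h.u_not ⟨c, Subtype.ext ((SubgroupClass.coe_zpow z c).trans (by
      have e3 := congrArg (fun q : C => (q : Ω)) ((g : MulAut C).injective e2)
      simpa using e3))⟩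
  obtain ⟨k, hk⟩ := (mem_powers_iff_mem_zpowers (x := uC ^ m) (y := uC⁻¹)).2 (by
    have := mem_zpowers_of_prime_card (g := (⟨uC ^ m, ⟨m, rfl⟩⟩ : Subgroup.zpowers uC))
      (g' := ⟨uC⁻¹, inv_mem (Subgroup.mem_zpowers uC)⟩)
      ((Nat.card_zpowers uC).trans (orderOf_eq_prime huC huC1)) (fun he => hum (congrArg Subtype.val he))
    obtain ⟨c, hc⟩ := this
    exact ⟨c, congrArg Subtype.val hc⟩)
  set s := s₀ ^ k with hs
  have hsu : s uC = uC := by simpa using pow_apply_of_fixed (b := 0) hs₀u (by simpa using hs₀u) k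
  have hsz : s zC = zC * uC⁻¹ := by
    rw [hs, pow_apply_of_fixed hs₀u hm k]
    exact congrArg (zC * ·) hk
  have hsd : ∀ c : C, ∃ b : ℤ, s c = c * uC ^ b := fun c => by
    obtain ⟨b, hb⟩ := hs₀d c
    exact ⟨b * k, by rw [hs, pow_apply_of_fixed hs₀u hb k, zpow_mul, zpow_natCast]⟩
  obtain ⟨hιz, hιt⟩ := exists_inversion habC htu htz htd hsu hsz hsd
  set ι := (t * s * t) * (t * s * t) with hι
  have hsF : s ∈ F.autGroup C := pow_mem hs₀F k
  have hιF : ι ∈ F.autGroup C := mul_mem (mul_mem (mul_mem htF hsF) htF) (mul_mem (mul_mem htF hsF) htF)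
  obtain ⟨ψ, hψ, hag⟩ := hext ι hιF (by
    rw [hιt, mul_inv_cancel_right]
    exact conjAut_mem_autInducedBy (hP.1 x.2) _)
  set y : P := ⟨ψ x, hP.2 P le_rfl ψ hψ x⟩ with hy
  have hyc : ∀ c : C, (y : Ω) * c * (y : Ω)⁻¹ = x * c * (x : Ω)⁻¹ := by
    intro c
    obtain ⟨c₀, rfl⟩ := (ι : MulAut C).surjective c
    have h1 : (⟨(t c₀ : C), hCP (t c₀).2⟩ : P) = x * ⟨c₀, hCP c₀.2⟩ * x⁻¹ := Subtype.ext rfl
    have h2 := hag (t c₀)
    rw [h1, map_mul, map_mul, map_inv, hag, ← MulAut.mul_apply, hιt, MulAut.mul_apply] at h2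
    exact h2
  have hau : Commute (x⁻¹ * y) u := by
    have h1 : y * u * y⁻¹ = x * u * x⁻¹ := Subtype.ext (hyc uC)
    show x⁻¹ * y * u = u * (x⁻¹ * y)
    rw [mul_inv_eq_iff_eq_mul] at h1
    rw [mul_assoc, h1]
    group
  have hxpne : x ^ p ≠ 1 := hnox x (by
    rw [hx]
    intro he
    have h3 := h.orderz
    rw [he, orderOf_one] at h3
    exact (Fact.out : p.Prime).one_lt.ne h3)
  have hyp : y ^ p = x ^ p := by
    obtain ⟨i, hi⟩ := h.comm (x⁻¹ * y) x
    have hcm : ∀ g : P, Commute ⁅x⁻¹ * y, x⁆ g := fun g => (Subgroup.mem_center_iff.1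
      (CfsgLib.Transfer.commutatorElement_mem_center_of_le h.class_two (x⁻¹ * y) x) g).symm
    obtain ⟨q, hq⟩ : p ∣ p.choose 2 := Nat.Prime.dvd_choose_self Fact.out two_ne_zero
      (lt_of_le_of_ne (Fact.out : p.Prime).two_le (Ne.symm hp2))
    conv_lhs => rw [show y = x * (x⁻¹ * y) from (mul_inv_cancel_left x y).symm]
    rw [CfsgLib.Transfer.mul_pow_of_commute_commutator (hcm _) (hcm _), h.cexp _ hau, mul_one, hq, pow_mul,
      ← hi]
    have e2 : (z ^ i) ^ p = 1 := by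
      rw [← zpow_natCast, ← zpow_mul]
      exact zpow_eq_one_of_dvd (h.orderz ▸ pow_orderOf_eq_one z) (Dvd.intro_left i rfl)
    rw [show ((fun j : ℤ => z ^ j) i) = z ^ i from rfl, e2, one_pow, mul_one]
  obtain ⟨j, hj⟩ := hpow x
  have hj' : z ^ j = x ^ p := hj
  have h1 : ψ (x ^ p) = (z : Ω)⁻¹ ^ j := by
    have h2 : ψ z = (z : Ω)⁻¹ := (hag zC).trans (congrArg Subtype.val hιz)
    rw [← hj', map_zpow, h2]
  have h2 : ψ (x ^ p) = (z : Ω) ^ j := by
    rw [map_pow]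
    have := congrArg Subtype.val (hyp.trans hj'.symm)
    rw [SubgroupClass.coe_pow, SubgroupClass.coe_zpow] at this
    exact this
  have h3 : z ^ (2 * j) = 1 := by
    refine Subtype.ext ?_
    rw [SubgroupClass.coe_zpow, two_mul, zpow_add]
    show (z : Ω) ^ j * (z : Ω) ^ j = 1
    nth_rewrite 1 [← h2, h1]
    rw [inv_zpow, inv_mul_cancel]
  rw [h.zpow_eq_one_iff] at h3
  have hj2 : (p : ℤ) ∣ j := by
    refine ((Int.Prime.dvd_mul' (Fact.out : p.Prime)) h3).resolve_left ?_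
    intro h4
    exact hp2 ((Nat.prime_dvd_prime_iff_eq Fact.out Nat.prime_two).1 (Int.natCast_dvd_natCast.1 h4))
  exact hxpne (hj'.symm.trans (zpow_eq_one_of_dvd (h.orderz ▸ pow_orderOf_eq_one z) hj2))

/-- A strongly closed generalized extraspecial subgroup is normal, outside two exceptions. -/
theorem isNormal_of_generalized (hS : IsPGroup p S) (hF : F.IsSaturated p) (hP : F.StronglyClosed P)
    (hge : frattini ↥P = commutator ↥P ∧ Nat.card ↥(commutator ↥P) = p)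
    (h2 : p = 2 → ¬ ∃ (A : Type) (_ : CommGroup A), (∀ a : A, a ^ 2 = 1) ∧
      Nonempty (↥P ≃* DihedralGroup 4 × A))
    (hodd : p ≠ 2 → ¬ ∃ (E : Type) (_ : Group E) (A : Type) (_ : CommGroup A), Cfsg.IsExtraspecial p E ∧
      Nat.card E = p ^ 3 ∧ Monoid.exponent E = p ∧ (∀ a : A, a ^ p = 1) ∧ Nonempty (↥P ≃* E × A)) :
    F.IsNormal P := by
  have : Finite P := finite_of_le hP.1
  have hPp : IsPGroup p P := isPGroup_of_le hS hP.1
  have hne : commutator ↥P ≠ ⊥ := fun h => by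
    have := hge.2
    rw [h, Subgroup.card_bot] at this
    exact (Fact.out : p.Prime).one_lt.ne this
  obtain ⟨⟨z, hz⟩, hz1⟩ := (Subgroup.ne_bot_iff_exists_ne_one).1 hne
  have horder : orderOf z = p := by
    refine orderOf_eq_prime ?_ (fun he => hz1 (Subtype.ext he))
    have := pow_card_eq_one' (x := (⟨z, hz⟩ : commutator ↥P))
    rw [hge.2] at this
    exact congrArg Subtype.val this
  have hgen : commutator ↥P = Subgroup.zpowers z := (Subgroup.eq_of_le_of_card_ge (Subgroup.zpowers_le.2 hz)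
    (by rw [hge.2, Nat.card_zpowers, horder])).symm
  have hcomm : ∀ a b : P, ⁅a, b⁆ ∈ Subgroup.zpowers z := fun a b =>
    hgen ▸ Subgroup.commutator_mem_commutator (Subgroup.mem_top a) (Subgroup.mem_top b)
  have hpow : ∀ a : P, a ^ p ∈ Subgroup.zpowers z := fun a => by
    rw [← hgen, ← hge.1]
    exact CfsgLib.Transfer.pow_mem_frattini hPp a
  have hPn := Fusion.stronglyClosed_le_normalizer hP
  have hzS : ∀ s ∈ S, s * (z : Ω) = z * s := by
    intro s hs
    have hn : ((Subgroup.zpowers (z : Ω)).subgroupOf S).Normal := by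
      refine ⟨fun w hw g => ?_⟩
      obtain ⟨k, hk⟩ := hw
      have h1 : conjAut P g (hPn g.2) z ∈ commutator ↥P :=
        (Subgroup.characteristic_iff_map_eq.1 (inferInstance : (commutator ↥P).Characteristic)
          (conjAut P g (hPn g.2))).le ⟨z, hz, rfl⟩
      rw [hgen] at h1
      have h2 : (g : Ω) * z * (g : Ω)⁻¹ ∈ Subgroup.zpowers (z : Ω) := coe_mem_zpowers.2 h1
      show (g : Ω) * w * (g : Ω)⁻¹ ∈ Subgroup.zpowers (z : Ω)
      rw [show (w : Ω) = (z : Ω) ^ k from hk.symm, ← conj_zpow]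
      exact Subgroup.zpow_mem _ h2 k
    have hzS' : (z : Ω) ∈ S := hP.1 z.2
    have hle := CfsgLib.FusionExtraspecial.le_center_of_card_eq hS hn (by
      rw [Nat.card_congr (Subgroup.subgroupOfEquivOfLe (Subgroup.zpowers_le.2 hzS')).toEquiv,
        Nat.card_zpowers, Subgroup.orderOf_coe, horder])
    have := Subgroup.mem_center_iff.1 (hle (x := ⟨(z : Ω), hzS'⟩) (Subgroup.mem_zpowers (z : Ω))) ⟨s, hs⟩
    exact congrArg Subtype.val this
  have hnab : ∃ a b : P, ⁅a, b⁆ ≠ 1 := by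
    by_contra hh
    push Not at hh
    refine hne ?_
    rw [commutator_def, eq_bot_iff, Subgroup.commutator_le]
    exact fun a _ b _ => Subgroup.mem_bot.2 (hh a b)
  -- `⟨z⟩` is strongly closed
  have hfix : ∀ φ : Subgroup.zpowers (z : Ω) →* Ω, φ ∈ F.Hom (Subgroup.zpowers (z : Ω)) →
      φ ⟨z, Subgroup.mem_zpowers _⟩ ∈ Subgroup.zpowers (z : Ω) := by
    intro φ hφ
    by_contra hout
    obtain ⟨u, hu, hdata⟩ := exists_data hS hF hP hzS horder hcomm hpow hnab hφ hout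
    by_cases hp2 : p = 2
    · subst hp2
      exact h2 rfl (hdata.dihedral hPp hpow)
    · by_cases hx : ∃ a : P, ⁅a, u⁆ ≠ 1 ∧ a ^ p = 1
      · obtain ⟨a, ha, hap⟩ := hx
        exact hodd hp2 (hdata.extraspecial hp2 ha hap)
      · exact false_of_data hS hF hp2 hP hdata hpow (fun a ha hap => hx ⟨a, ha, hap⟩) hφ hu.symm
  set D := Subgroup.zpowers (z : Ω) with hD
  have hDP : D ≤ P := Subgroup.zpowers_le.2 z.2
  have hDsc : F.StronglyClosed D := by
    refine ⟨hDP.trans hP.1, fun R hR φ hφ r => ?_⟩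
    by_cases hr : r = 1
    · rw [hr, map_one]
      exact one_mem _
    obtain ⟨k, hk⟩ := mem_zpowers_of_prime_card (g := (⟨r, hR r.2⟩ : D)) (g' := ⟨z, Subgroup.mem_zpowers _⟩)
      ((Nat.card_zpowers (z : Ω)).trans (by rw [Subgroup.orderOf_coe, horder]))
      (fun he => hr (Subtype.ext (congrArg Subtype.val he :)))
    have hDR : D ≤ R := Subgroup.zpowers_le.2 (by
      have e : ((r ^ k : R) : Ω) = z := (SubgroupClass.coe_zpow r k).trans (congrArg Subtype.val hk)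
      exact e ▸ (r ^ k).2)
    have h1 := hfix _ (restrict_mem hφ hDR)
    obtain ⟨i, hi⟩ := hR r.2
    have e : r = Subgroup.inclusion hDR (⟨z, Subgroup.mem_zpowers _⟩ ^ i) :=
      Subtype.ext (by rw [← hi]; simp)
    rw [e, map_zpow, map_zpow]
    exact zpow_mem h1 i
  refine Stability.isNormal_of_series hS hF (fun i => if i = 0 then P else if i = 1 then D else ⊥) 2
    (fun i hi => ?_) rfl ?_
  · interval_cases i
    · exact hP
    · exact hDsc
    · refine ⟨bot_le, fun R hR φ hφ r => ?_⟩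
      rw [show r = 1 from Subtype.ext (Subgroup.mem_bot.1 (hR r.2)), map_one]
      exact one_mem _
  · intro i hi r hr x hx
    rw [if_pos rfl] at hr
    interval_cases i
    · simp only [if_pos] at hx
      simp only [Nat.zero_add, Nat.one_ne_zero, if_false, if_pos]
      have h1 := coe_mem_zpowers.2 (hcomm (⟨x, hx⟩ : P)⁻¹ ⟨r, hr⟩)
      simpa [commutatorElement_def, mul_assoc] using h1
    · simp only [Nat.one_ne_zero, if_false, if_pos] at hx
      obtain ⟨k, rfl⟩ := hx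
      rw [if_neg (by omega), if_neg (by omega), Subgroup.mem_bot]
      rw [((show Commute r (z : Ω) from hzS r (hP.1 hr)).zpow_right k).eq, mul_inv_cancel_right, inv_mul_cancel]

end CfsgLib.FusionGenExtra
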